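import Mathlib
import Cfsg.Agent.Lib.CosetTable.Check

/-! Generated certificate data for the coset table `Fi23LevelF`. -/

namespace Cfsg.Agent.Lib.CosetTable.Fi23LevelF

open Cfsg.Agent.Lib.CosetTable

set_option maxRecDepth 10000

noncomputable def facts : T := .leaf 0x2c00016500002c00016300002c00016200002c00016100002c00016000002800016400002800014500002800014200002800014100002800014000002400014300002400012500002400012400002400012100002400012000002000012200002000010500002000010400002000010300002000010000001c00010100001c0000a500001c0000e400001c0000e300001c0000e20000180000e00000180000c40000180000c30000180000c20000180000c10000100000c50000140000a40000140000a30000140000a20000140000a10000100000a000001000008400001000008300001000008200000c00008100000c00006500000c00006400000c00006300000c00006000000800006200000800004500000800004400000800004100000800004000000400004300000400002500000400002200000400002100000400002000000000002400000000000500000000000300000000000200000000000100000000000000000000000b00000000000a000000000009000000000008000000000007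

noncomputable def defs : T := .leaf 0x1440000000001230000000001020000000000e10000000000c0000000000085000000000080000000000061000000000042000000000023000000000004000000000000

noncomputable def nodeT : ℕ := 0xb00000a000009000008000007000006000005000004000003000002000001000000

noncomputable def parT : ℕ := 0x1440001230001020000e10000a5000085000080000061000042000023000004000000

noncomputable def perm0 : ℕ := 0xb000a0009000800060007000400050003000200010000

noncomputable def eid0 : ℕ := 0x3c00003700003200002d00002700002700001d00001d00001500001000000b000005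

noncomputable def perm1 : ℕ := 0xb000a0009000700080006000500030004000200010000

noncomputable def eid1 : ℕ := 0x3d00003800003300002c00002c00002300001e00001900001900001100000c000006

noncomputable def perm2 : ℕ := 0xb000a0008000900070006000500040002000300010000

noncomputable def eid2 : ℕ := 0x3e00003900003100003100002800002400001f00001a00001400001400000d000007

noncomputable def perm3 : ℕ := 0xb0009000a000800070006000500040003000100020000

noncomputable def eid3 : ℕ := 0x3f00003600003600002e00002900002500002000001b00001600000f00000f000008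

noncomputable def perm4 : ℕ := 0xa000b0009000800070006000500040003000200000001

noncomputable def eid4 : ℕ := 0x3b00003b00003400002f00002a00002600002100001c00001700001200000a00000a

noncomputable def perm5 : ℕ := 0xb000a0009000800050004000700060003000200010000

noncomputable def eid5 : ℕ := 0x4000003a00003500003000002b00002200002b00002200001800001300000e000009

noncomputable def rulesT : RT := .node (.node (.node (.node (.node (.node (.leaf 0 [7] 42 0) (.leaf 2 [3, 2, 3, 2, 3] 12 1)) (.node (.leaf 5 [2, 5, 2] 14 0) (.leaf 6 [] 0 0))) (.node (.node (.leaf 5 [4, 5, 4] 19 0) (.leaf 6 [] 0 0)) (.node (.leaf 1 [5, 1, 5, 1, 5] 10 1) (.leaf 6 [] 0 0)))) (.node (.node (.node (.leaf 5 [11] 46 0) (.leaf 6 [] 0 0)) (.node (.leaf 1 [0, 1, 0, 1, 0] 1 0) (.leaf 6 [] 0 0))) (.node (.node (.leaf 5 [3, 5, 3] 17 0) (.leaf 6 [] 0 0)) (.node (.leaf 5 [0, 5, 0] 5 0) (.leaf 6 [] 0 0))))) (.node (.node (.node (.node (.leaf 2 [9] 44 0) (.leaf 6 [] 0 0)) (.node (.leaf 3 [1, 3, 1] 8 0) (.leaf 6 [] 0 0))) (.node (.node (.leaf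 1 [3, 1, 3] 8 1) (.leaf 6 [] 0 0)) (.node (.leaf 3 [5, 3, 5] 17 1) (.leaf 6 [] 0 0)))) (.node (.node (.node (.leaf 1 [4, 1, 4] 9 1) (.leaf 6 [] 0 0)) (.node (.leaf 3 [0, 3, 0] 3 0) (.leaf 6 [] 0 0))) (.node (.node (.leaf 3 [2, 3, 2, 3, 2] 12 0) (.leaf 6 [] 0 0)) (.node (.leaf 5 [1, 5, 1, 5, 1] 10 0) (.leaf 6 [] 0 0)))))) (.node (.node (.node (.node (.node (.leaf 1 [8] 43 0) (.leaf 3 [4, 3, 4, 3, 4] 16 1)) (.node (.leaf 2 [1, 2, 1, 2, 1] 7 0) (.leaf 6 [] 0 0))) (.node (.node (.leaf 0 [3, 0, 3] 3 1) (.leaf 6 [] 0 0)) (.node (.leaf 2 [5, 2, 5] 14 1) (.leaf 6 [] 0 0)))) (.node (.node (.node (.leaf 0 [4, 0, 4] 4 1) (.leaf 6 [] 0 0)) (.node (.leaf 2 [0, 2, 0] 2 0) (.leaf 6 [] 0 0))) (.node (.node (.leaf 0 [2, 0, 2] 2 1) (.leaf 6 [] 0 0)) (.node (.leaf 0 [1, 0, 1, 0, 1] 1 1) (.leaf 6 [] 0 0))))) (.node (.node (.node (.node (.leaf 3 [10] 45 0) (.leaf 6 [] 0 0)) (.node (.leaf 4 [1, 4, 1] 9 0) (.leaf 6 [] 0 0))) (.node (.node (.leaf 4 [3, 4, 3, 4, 3] 16 0) (.leaf 6 [] 0 0)) (.node (.leaf 4 [5, 4, 5] 19 1)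 (.leaf 6 [] 0 0)))) (.node (.node (.node (.leaf 2 [4, 2, 4] 13 1) (.leaf 6 [] 0 0)) (.node (.leaf 4 [0, 4, 0] 4 0) (.leaf 6 [] 0 0))) (.node (.node (.leaf 4 [2, 4, 2] 13 0) (.leaf 6 [] 0 0)) (.node (.leaf 1 [2, 1, 2, 1, 2] 7 1) (.leaf 6 [] 0 0))))))

noncomputable def relsL : List (List ℕ) := [[0, 0],
  [0, 1, 0, 1, 0, 1],
  [0, 2, 0, 2],
  [0, 3, 0, 3],
  [0, 4, 0, 4],
  [0, 5, 0, 5],
  [1, 1],
  [1, 2, 1, 2, 1, 2],
  [1, 3, 1, 3],
  [1, 4, 1, 4],
  [1, 5, 1, 5, 1, 5],
  [2, 2],
  [2, 3, 2, 3, 2, 3],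
  [2, 4, 2, 4],
  [2, 5, 2, 5],
  [3, 3],
  [3, 4, 3, 4, 3, 4],
  [3, 5, 3, 5],
  [4, 4],
  [4, 5, 4, 5],
  [5, 5]]

noncomputable def subsL : List (List ℕ) := [[0],
  [1],
  [2],
  [3],
  [5]]

noncomputable def cert : Cert where
  k := 6
  rels := relsL
  subs := subsL
  rules := rulesT
  facts := facts
  defs := defs

noncomputable def tab : Table where
  n := 12
  k := 6
  node := nodeT
  perms := [perm0, perm1, perm2, perm3, perm4, perm5]
  eids := [eid0, eid1, eid2, eid3, eid4, eid5]
  par := parT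

end Cfsg.Agent.Lib.CosetTable.Fi23LevelF
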