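import Cfsg.Agent.Lib.CosetTable.Sound
import Cfsg.Agent.Lib.CosetTable.Fi23LevelF.Data

/-! Generated certificate data for the coset table `Fi23LevelF`. -/

namespace Cfsg.Agent.Lib.CosetTable.Fi23LevelF

open Cfsg.Agent.Lib.CosetTable

noncomputable def streams0 : List (ℕ × ℕ) := [(64, 0x7600006c00006800006d00007700000500002300007600007200007700000300000900007600007000007700000300000800007600006e00007700000300000700000000000000006c00006a00006d00000300000e00006c00006200005c00006300006d00000500002200006c00006600006d00000300000c00006c00006400006d00000300000b00000000000000006200006000006300000300001200006200005e00006300000300001100006200005800005000005900006300000500002100006200005a00006300000300000f00000000000000005800005700003c00005600005900000500002000005800005400005900000300001500005800005200005900000300001400005800004e00004600004f00005900000500001f00000000000000003a00004500004f00000300001e00004e00004c00004f00000300001900004e00004a00004f00000300001800004e00004800004f00000300001700000000000000004400003800004500000300001d00004400003600004500000300001c00004400003400004500000300001b00004400003200003000003300004500000500001a00000000000000003a00003800003b00000300001900003a00003600003b00000300001800003a00003400003b00000300001700003a00003200002a00003300003b00000500001600000000000000003200002e00003300000300001500003200002c00003300000300001400003200002800002200002900003300000500001300000000000000002800002600002900000300001200002800002400002900000300001100002800001e00001a00001f00002900000500001000002800002000002900000300000f00000000000000001e00001c00001f00000300000e00001e00001400001000001500001f00000500000d00001e00001800001f00000300000c00001e00001600001f00000300000b00000000000000001400001200001500000300000a00001400000e00001500000300000900001400000c00001500000300000800001400000a000015000003000007000000000000000008000001000006000006000001000005000004000001000004000002000001000003000000000001000002000000000001000000000001000000000001000000000001000000000001),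
  (1, 0x7600007400007700000300000a)]

theorem run0 : cert.goStreams streams0 0 = true := by decide +kernel

theorem part1 (h : cert.Upto 0) : cert.Upto 65 :=
  (h).step (b := 65) run0 rfl

end Cfsg.Agent.Lib.CosetTable.Fi23LevelF
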